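import Cfsg.Agent.H64.SLCover.RankOne
import Cfsg.Agent.H92.SL2Hom

/-!
# Groups with the Steinberg relations of `SL_n`

A structure for a group over `SL_n(F)` with root elements satisfying the Steinberg relations, the
conjugation rules of the Weyl elements, and injectivity on rank one subgroups.
-/

set_option autoImplicit false

namespace Cfsg.Agent.H70.StPres

open Matrix Cfsg.Agent.H64.SLCover Cfsg.Agent.H92
open scoped commutatorElement MatrixGroups

/-- A group over `SL_n(F)` with root elements satisfying the Steinberg relations. -/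
structure St (Γ : Type*) [Group Γ] (n : ℕ) (F : Type*) [Field F] where
  σ : Γ →* Matrix.SpecialLinearGroup (Fin n) F
  hn : 3 ≤ n
  X : Fin n → Fin n → F → Γ
  σ_X : ∀ {i j : Fin n}, i ≠ j → ∀ t : F, σ (X i j t) = rx i j t
  X_add : ∀ {i j : Fin n}, i ≠ j → ∀ s t : F, X i j (s + t) = X i j s * X i j t
  X_commute : ∀ {i j k l : Fin n}, i ≠ j → k ≠ l → j ≠ k → i ≠ l → ∀ s t : F,
    Commute (X i j s) (X k l t)
  X_bracket : ∀ {i j k : Fin n}, i ≠ j → i ≠ k → k ≠ j → ∀ s t : F,
    ⁅X i k s, X k j t⁆ = X i j (s * t)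

namespace St

variable {Γ : Type*} [Group Γ] {n : ℕ} {F : Type*} [Field F] (C : St Γ n F)

theorem X_zero {i j : Fin n} (hij : i ≠ j) : C.X i j (0 : F) = 1 :=
  mul_eq_right.mp (by rw [← C.X_add hij, add_zero] : C.X i j (0 : F) * C.X i j 0 = C.X i j 0)

theorem X_inv {i j : Fin n} (hij : i ≠ j) (t : F) : (C.X i j t)⁻¹ = C.X i j (-t) :=
  inv_eq_of_mul_eq_one_right (by rw [← C.X_add hij, add_neg_cancel, C.X_zero hij])

/-- The Weyl element `x_ij(t) x_ji(-t⁻¹) x_ij(t)`. -/
def W (i j : Fin n) (t : F) : Γ := C.X i j t * C.X j i (-t⁻¹) * C.X i j t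

theorem σ_W {i j : Fin n} (h : i ≠ j) (t : F) : C.σ (C.W i j t) = rw' i j t := by
  rw [W, map_mul, map_mul, C.σ_X h, C.σ_X h.symm, rw']

theorem W_neg {i j : Fin n} (h : i ≠ j) (t : F) : C.W i j (-t) = (C.W i j t)⁻¹ := by
  simp only [W, _root_.mul_inv_rev, C.X_inv h, C.X_inv h.symm, inv_neg, neg_neg, mul_assoc]

theorem W_mono {i j : Fin n} (h : i ≠ j) {t : F} (ht : t ≠ 0) (a : Fin n) :
    MonoAt (C.σ (C.W i j t)) a (Equiv.swap i j a) (if a = j then t else if a = i then -t⁻¹ else 1) := by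
  rw [C.σ_W h]; exact rw'_monoAt h ht a

/-- `g` maps every root element to a root element. -/
def Shifts (g : Γ) : Prop :=
  ∀ (i j : Fin n) (t : F), i ≠ j → ∃ p q u, p ≠ q ∧ g * C.X i j t * g⁻¹ = C.X p q u

/-- The elements which, with their inverses, map root elements to root elements. -/
def mono : Subgroup Γ where
  carrier := {g | C.Shifts g ∧ C.Shifts g⁻¹}
  one_mem' := ⟨fun i j t h => ⟨i, j, t, h, by simp⟩, fun i j t h => ⟨i, j, t, h, by simp⟩⟩
  mul_mem' := by
    have key : ∀ a b : Γ, C.Shifts a → C.Shifts b → C.Shifts (a * b) := by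
      intro a b ha hb i j t hij
      obtain ⟨p, q, u, hpq, h1⟩ := hb i j t hij
      obtain ⟨p', q', u', hpq', h2⟩ := ha p q u hpq
      exact ⟨p', q', u', hpq', by rw [← h2, ← h1]; group⟩
    rintro a b ⟨ha, ha'⟩ ⟨hb, hb'⟩
    exact ⟨key a b ha hb, by rw [_root_.mul_inv_rev]; exact key _ _ hb' ha'⟩
  inv_mem' := by
    rintro a ⟨ha, ha'⟩
    exact ⟨ha', by rwa [inv_inv]⟩

theorem conj_row_through {i j l : Fin n} (hij : i ≠ j) (hli : l ≠ i) (hlj : l ≠ j) {t : F} (ht : t ≠ 0)
    (u : F) :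
    C.W i j t * C.X i l u * (C.W i j t)⁻¹ = C.X j l (-(t⁻¹ * u)) ∧
      C.W i j t * C.X j l u * (C.W i j t)⁻¹ = C.X i l (t * u) := by
  have cI : ∀ a b : F, C.X i j a * C.X i l b * (C.X i j a)⁻¹ = C.X i l b := fun a b => by
    rw [(C.X_commute hij hli.symm hij.symm hli.symm a b).eq, mul_inv_cancel_right]
  have cJ : ∀ a b : F, C.X j i a * C.X j l b * (C.X j i a)⁻¹ = C.X j l b := fun a b => by
    rw [(C.X_commute hij.symm hlj.symm hij hlj.symm a b).eq, mul_inv_cancel_right]
  have bI : ∀ a b : F, C.X i j a * C.X j l b * (C.X i j a)⁻¹ = C.X i l (a * b) * C.X j l b := fun a b => by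
    have h := C.X_bracket (i := i) (j := l) (k := j) hli.symm hij hlj.symm a b
    rw [commutatorElement_def, mul_inv_eq_iff_eq_mul] at h
    exact h
  have bJ : ∀ a b : F, C.X j i a * C.X i l b * (C.X j i a)⁻¹ = C.X j l (a * b) * C.X i l b := fun a b => by
    have h := C.X_bracket (i := j) (j := l) (k := i) hlj.symm hij.symm hli.symm a b
    rw [commutatorElement_def, mul_inv_eq_iff_eq_mul] at h
    exact h
  have cc : ∀ a b : F, Commute (C.X j l a) (C.X i l b) :=
    fun a b => C.X_commute hlj.symm hli.symm hli hlj.symm a b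
  have e : ∀ g : Γ, C.W i j t * g * (C.W i j t)⁻¹ = C.X i j t * (C.X j i (-t⁻¹) *
      (C.X i j t * g * (C.X i j t)⁻¹) * (C.X j i (-t⁻¹))⁻¹) * (C.X i j t)⁻¹ := fun g => by
    simp only [W]; group
  refine ⟨?_, ?_⟩
  · rw [e, cI, bJ,
      show C.X i j t * (C.X j l (-t⁻¹ * u) * C.X i l u) * (C.X i j t)⁻¹ =
        (C.X i j t * C.X j l (-t⁻¹ * u) * (C.X i j t)⁻¹) * (C.X i j t * C.X i l u * (C.X i j t)⁻¹) by group,
      bI, cI, mul_assoc, (cc _ _).eq, ← mul_assoc, ← C.X_add hli.symm,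
      show t * (-t⁻¹ * u) + u = 0 by field_simp; ring, C.X_zero hli.symm, one_mul]
    congr 1
    ring
  · rw [e, bI,
      show C.X j i (-t⁻¹) * (C.X i l (t * u) * C.X j l u) * (C.X j i (-t⁻¹))⁻¹ =
        (C.X j i (-t⁻¹) * C.X i l (t * u) * (C.X j i (-t⁻¹))⁻¹) *
          (C.X j i (-t⁻¹) * C.X j l u * (C.X j i (-t⁻¹))⁻¹) by group,
      bJ, cJ, mul_assoc (C.X j l _) (C.X i l _) (C.X j l _), ← (cc u (t * u)).eq, ← mul_assoc (C.X j l _) (C.X j l _), ← C.X_add hlj.symm,
      show -t⁻¹ * (t * u) + u = 0 by field_simp; ring, C.X_zero hlj.symm, one_mul, cI]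

theorem conj_col_through {i j k : Fin n} (hij : i ≠ j) (hki : k ≠ i) (hkj : k ≠ j) {t : F} (ht : t ≠ 0)
    (u : F) :
    C.W i j t * C.X k i u * (C.W i j t)⁻¹ = C.X k j (-(u * t)) ∧
      C.W i j t * C.X k j u * (C.W i j t)⁻¹ = C.X k i (u * t⁻¹) := by
  have cI : ∀ a b : F, C.X i j a * C.X k j b * (C.X i j a)⁻¹ = C.X k j b := fun a b => by
    rw [(C.X_commute hij hkj hkj.symm hij a b).eq, mul_inv_cancel_right]
  have cJ : ∀ a b : F, C.X j i a * C.X k i b * (C.X j i a)⁻¹ = C.X k i b := fun a b => by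
    rw [(C.X_commute hij.symm hki hki.symm hij.symm a b).eq, mul_inv_cancel_right]
  have bI : ∀ a b : F, C.X i j a * C.X k i b * (C.X i j a)⁻¹ = C.X k j (-(b * a)) * C.X k i b := fun a b => by
    have h := C.X_bracket (i := k) (j := j) (k := i) hkj hki hij b a
    rw [← _root_.inv_inj, commutatorElement_inv, commutatorElement_def, mul_inv_eq_iff_eq_mul,
      C.X_inv hkj] at h
    exact h
  have bJ : ∀ a b : F, C.X j i a * C.X k j b * (C.X j i a)⁻¹ = C.X k i (-(b * a)) * C.X k j b := fun a b => by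
    have h := C.X_bracket (i := k) (j := i) (k := j) hki hkj hij.symm b a
    rw [← _root_.inv_inj, commutatorElement_inv, commutatorElement_def, mul_inv_eq_iff_eq_mul,
      C.X_inv hki] at h
    exact h
  have cc : ∀ a b : F, Commute (C.X k j a) (C.X k i b) :=
    fun a b => C.X_commute hkj hki hkj.symm hki a b
  have e : ∀ g : Γ, C.W i j t * g * (C.W i j t)⁻¹ = C.X i j t * (C.X j i (-t⁻¹) *
      (C.X i j t * g * (C.X i j t)⁻¹) * (C.X j i (-t⁻¹))⁻¹) * (C.X i j t)⁻¹ := fun g => by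
    simp only [W]; group
  refine ⟨?_, ?_⟩
  · rw [e, bI,
      show C.X j i (-t⁻¹) * (C.X k j (-(u * t)) * C.X k i u) * (C.X j i (-t⁻¹))⁻¹ =
        (C.X j i (-t⁻¹) * C.X k j (-(u * t)) * (C.X j i (-t⁻¹))⁻¹) *
          (C.X j i (-t⁻¹) * C.X k i u * (C.X j i (-t⁻¹))⁻¹) by group,
      bJ, cJ, mul_assoc (C.X k i _) (C.X k j _) (C.X k i _), (cc _ _).eq, ← mul_assoc (C.X k i _) (C.X k i _), ← C.X_add hki,
      show -(-(u * t) * -t⁻¹) + u = 0 by field_simp; ring, C.X_zero hki, one_mul, cI]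
  · rw [e, cI, bJ,
      show C.X i j t * (C.X k i (-(u * -t⁻¹)) * C.X k j u) * (C.X i j t)⁻¹ =
        (C.X i j t * C.X k i (-(u * -t⁻¹)) * (C.X i j t)⁻¹) * (C.X i j t * C.X k j u * (C.X i j t)⁻¹) by group,
      bI, cI, mul_assoc, ← (cc u _).eq, ← mul_assoc, ← C.X_add hkj,
      show -(-(u * -t⁻¹) * t) + u = 0 by field_simp; ring, C.X_zero hkj, one_mul]
    congr 1
    ring

theorem shifts_W {i j : Fin n} (hij : i ≠ j) {t : F} (ht : t ≠ 0) : C.Shifts (C.W i j t) := by
  intro a b u hab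
  by_cases hai : a = i
  · by_cases hbj : b = j
    · subst hai hbj
      obtain ⟨k, hk1, hk2⟩ := Cov.exists_other2 C.hn a b
      refine ⟨b, a, -(t⁻¹ * u) * (1 * t⁻¹), hij.symm, ?_⟩
      have h := C.X_bracket (i := a) (j := b) (k := k) hij hk1.symm hk2 u 1
      rw [mul_one] at h
      rw [← h, ← C.X_bracket (i := b) (j := a) (k := k) hij.symm hk2.symm hk1,
        ← (C.conj_row_through hij hk1 hk2 ht u).1, ← (C.conj_col_through hij hk1 hk2 ht 1).2]
      simp only [commutatorElement_def]; group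
    · subst hai
      exact ⟨j, b, _, fun h => hbj h.symm, (C.conj_row_through hij hab.symm hbj ht u).1⟩
  by_cases haj : a = j
  · by_cases hbi : b = i
    · subst haj hbi
      obtain ⟨k, hk1, hk2⟩ := Cov.exists_other2 C.hn b a
      refine ⟨b, a, t * u * -(1 * t), hij, ?_⟩
      have h := C.X_bracket (i := a) (j := b) (k := k) hij.symm hk2.symm hk1 u 1
      rw [mul_one] at h
      rw [← h, ← C.X_bracket (i := b) (j := a) (k := k) hij hk1.symm hk2,
        ← (C.conj_row_through hij hk1 hk2 ht u).2, ← (C.conj_col_through hij hk1 hk2 ht 1).1]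
      simp only [commutatorElement_def]; group
    · subst haj
      exact ⟨i, b, _, fun h => hbi h.symm, (C.conj_row_through hij hbi hab.symm ht u).2⟩
  by_cases hbi : b = i
  · subst hbi
    exact ⟨a, j, _, haj, (C.conj_col_through hij hab haj ht u).1⟩
  by_cases hbj : b = j
  · subst hbj
    exact ⟨a, i, _, hai, (C.conj_col_through hij hai hab ht u).2⟩
  refine ⟨a, b, u, hab, ?_⟩
  have h1 : Commute (C.W i j t) (C.X a b u) :=
    ((C.X_commute hij hab (Ne.symm haj) (Ne.symm hbi) t u).mul_left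
      (C.X_commute hij.symm hab (Ne.symm hai) (Ne.symm hbj) _ u)).mul_left
      (C.X_commute hij hab (Ne.symm haj) (Ne.symm hbi) t u)
  rw [h1.eq, mul_inv_cancel_right]

theorem W_mem_mono {i j : Fin n} (hij : i ≠ j) {t : F} (ht : t ≠ 0) : C.W i j t ∈ C.mono :=
  ⟨C.shifts_W hij ht, C.W_neg hij t ▸ C.shifts_W hij (neg_ne_zero.mpr ht)⟩

/-- A shifting element over a monomial matrix permutes the root elements. -/
theorem X_conj {g : Γ} (hgM : g ∈ C.mono) {π : Equiv.Perm (Fin n)} {c : Fin n → F}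
    (hg : ∀ a, MonoAt (C.σ g) a (π a) (c a)) {i j : Fin n} (hij : i ≠ j) (t : F) :
    g * C.X i j t * g⁻¹ = C.X (π i) (π j) (c i / c j * t) := by
  obtain ⟨p, q, u, hpq, he⟩ := hgM.1 i j t hij
  rw [he]
  have hσ := congrArg C.σ he
  rw [map_mul, map_mul, map_inv, C.σ_X hij, C.σ_X hpq, rx_conj hg] at hσ
  set v := c i / c j * t
  have hπ : π i ≠ π j := π.injective.ne hij
  have hM := congrArg (fun A : Matrix.SpecialLinearGroup (Fin n) F => (A : Matrix (Fin n) (Fin n) F)) hσ
  simp only [rx_coe hpq, rx_coe hπ, add_right_inj] at hM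
  by_cases hu : u = 0
  · subst hu
    have := congrFun (congrFun hM (π i)) (π j)
    simp at this
    rw [this, C.X_zero hpq, C.X_zero hπ]
  · have := congrFun (congrFun hM p) q
    simp only [Matrix.single_apply_same] at this
    by_cases h : π i = p ∧ π j = q
    · obtain ⟨rfl, rfl⟩ := h
      simp only [Matrix.single_apply_same] at this
      rw [this]
    · rw [Matrix.single_apply_of_ne _ _ _ _ _ h] at this
      exact absurd this.symm hu

/-- The group generated by an opposite pair of root groups. -/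
def pairGroup (a b : Fin n) : Subgroup Γ :=
  Subgroup.closure (Set.range (C.X a b) ∪ Set.range (C.X b a))

theorem X_mem_pairGroup (a b : Fin n) (t : F) : C.X a b t ∈ C.pairGroup a b :=
  Subgroup.subset_closure (Or.inl ⟨t, rfl⟩)

theorem X_mem_pairGroup' (a b : Fin n) (t : F) : C.X b a t ∈ C.pairGroup a b :=
  Subgroup.subset_closure (Or.inr ⟨t, rfl⟩)

theorem sl2Rels {a b : Fin n} (h : a ≠ b) : SL2Rels (C.X a b) (fun t => C.X b a (-t)) := by
  have hrn : ∀ t, rn (C.X a b) (fun t => C.X b a (-t)) t = C.W a b t := fun t => rfl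
  have hc : ∀ t : F, t ≠ 0 → ∀ u,
      C.W a b t * C.X a b u * (C.W a b t)⁻¹ = C.X b a (-(u / t ^ 2)) ∧
      C.W a b t * C.X b a u * (C.W a b t)⁻¹ = C.X a b (-(u * t ^ 2)) := by
    intro t ht u
    refine ⟨?_, ?_⟩
    · rw [C.X_conj (C.W_mem_mono h ht) (C.W_mono h ht) h, Equiv.swap_apply_left, Equiv.swap_apply_right]
      congr 1
      simp [h]
      field_simp
    · rw [C.X_conj (C.W_mem_mono h ht) (C.W_mono h ht) h.symm, Equiv.swap_apply_left, Equiv.swap_apply_right]
      congr 1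
      simp [h]
      field_simp
  refine ⟨C.X_add h, fun s t => ?_, fun t ht => ?_, fun t ht u => ?_, fun t ht u => ?_⟩
  · rw [neg_add, C.X_add h.symm]
  · rw [hrn]
    have h1 := (hc t ht t).1
    rw [show t / t ^ 2 = t⁻¹ by field_simp] at h1
    show C.X b a (-t⁻¹) * C.X a b t * C.X b a (-t⁻¹) = _
    rw [mul_inv_eq_iff_eq_mul] at h1
    simp only [W] at h1 ⊢
    refine (mul_right_cancel (b := C.X a b t) (h1.trans ?_)).symm
    group
  · rw [hrn]; exact (hc t ht u).1
  · rw [hrn, (hc t ht (-u)).2, neg_mul, neg_neg]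

/-- The rank one groups map injectively. -/
theorem pairGroup_injective [Finite F] {a b : Fin n} (h : a ≠ b) {z : Γ}
    (hz : z ∈ C.pairGroup a b) (hσz : C.σ z = 1) : z = 1 := by
  let R := C.sl2Rels h
  have hcomp : C.σ.comp R.hom = planeHom h := by
    refine MonoidHom.eq_of_eqOn_dense sl2_closure_sx_sy ?_
    rintro _ (⟨t, rfl⟩ | ⟨t, rfl⟩)
    · rw [MonoidHom.comp_apply, R.hom_sx, C.σ_X h]
      have : sx t = Matrix.SpecialLinearGroup.transvection (show (0 : Fin 2) ≠ 1 by decide) t := by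
        apply Subtype.ext
        rw [Matrix.SpecialLinearGroup.transvection_coe]
        ext i j; fin_cases i <;> fin_cases j <;> simp [sx]
      rw [this, planeHom_transvection]; rfl
    · rw [MonoidHom.comp_apply, R.hom_sy, C.σ_X h.symm]
      have : sy t = Matrix.SpecialLinearGroup.transvection (show (1 : Fin 2) ≠ 0 by decide) (-t) := by
        apply Subtype.ext
        rw [Matrix.SpecialLinearGroup.transvection_coe]
        ext i j; fin_cases i <;> fin_cases j <;> simp [sy]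
      rw [this, planeHom_transvection]; rfl
  have hmem : z ∈ R.hom.range := by
    refine (Subgroup.closure_le _).2 ?_ hz
    rintro _ (⟨t, rfl⟩ | ⟨t, rfl⟩)
    · exact ⟨sx t, R.hom_sx t⟩
    · exact ⟨sy (-t), by rw [R.hom_sy, neg_neg]⟩
  obtain ⟨M, rfl⟩ := hmem
  have hM : planeHom (F := F) h M = 1 := by rw [← hcomp]; exact hσz
  rw [planeHom_injective (F := F) h (hM.trans (map_one _).symm), map_one]

end St

end Cfsg.Agent.H70.StPres
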