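import Mathlib
import Cfsg.Agent.H70.StPres.BruhatDefs

set_option autoImplicit false

namespace Cfsg.Agent.H70.StPres

open Matrix Cfsg.Agent.H64.SLCover
open scoped commutatorElement

namespace St

variable {n : ℕ} {F : Type*} [Field F] {Γ : Type*} [Group Γ] (C : St Γ n F)

/-- Products representative * parabolic with leader at least `r`. -/
def cosets (o o' : Fin n) (r : ℕ) : Set Γ :=
  {g | ∃ (k : Fin n) (a : F) (u p : Γ), a ≠ 0 ∧ o.val ≤ k.val ∧ r ≤ k.val ∧
    u ∈ C.col o.val k.val k ∧ p ∈ C.par o.val ∧ g = u * C.rep o o' k a * p}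

variable {o o' : Fin n}

theorem cosets_mono {r r' : ℕ} (h : r ≤ r') : C.cosets o o' r' ⊆ C.cosets o o' r := by
  rintro g ⟨k, a, u, p, ha, hk, hr, hu, hp, rfl⟩
  exact ⟨k, a, u, p, ha, hk, h.trans hr, hu, hp, rfl⟩

theorem mem_cosets {k : Fin n} {a : F} (ha : a ≠ 0) (hk : o.val ≤ k.val) {r : ℕ} (hr : r ≤ k.val)
    {u p : Γ} (hu : u ∈ C.col o.val k.val k) (hp : p ∈ C.par o.val) :
    u * C.rep o o' k a * p ∈ C.cosets o o' r := ⟨k, a, u, p, ha, hk, hr, hu, hp, rfl⟩

/-- Upper elements below the leader preserve the cosets. -/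
theorem cosets_upper (ho : o ≠ o') {r : ℕ} {p q : Fin n} (hp : o.val ≤ p.val) (hpr : p.val < r)
    (hq : o.val ≤ q.val) (hpq : p ≠ q) (t : F) {g : Γ} (hg : g ∈ C.cosets o o' r) :
    C.X p q t * g ∈ C.cosets o o' r := by
  obtain ⟨k, a, u, w, ha, hk, hr, hu, hw, rfl⟩ := hg
  have hpk : p.val < k.val := lt_of_lt_of_le hpr hr
  have hpk' : p ≠ k := fun h => by subst h; omega
  by_cases hqk : q = k
  · subst hqk
    rw [← mul_assoc, ← mul_assoc]
    exact C.mem_cosets ha hk hr (mul_mem (C.X_mem_col hp hpk hpk' t) hu) hw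
  · have h1 := C.conj_X_col hpq.symm hpk'.symm hqk hp hpk t u hu
    have h2 := C.X_mul_rep ho hk ha hp hq hpq hqk t
    rw [show C.X p q t * (u * C.rep o o' k a * w) = (C.X p q t * u * (C.X p q t)⁻¹) * C.rep o o' k a *
      (((C.rep o o' k a)⁻¹ * C.X p q t * C.rep o o' k a) * w) by group]
    exact C.mem_cosets ha hk hr h1 (mul_mem h2 hw)

/-- Elements in a column strictly to the right of the leader are absorbed. -/
theorem cosets_right (ho : o ≠ o') {k : Fin n} {a : F} (ha : a ≠ 0) (hk : o.val ≤ k.val) {u w : Γ}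
    (hu : u ∈ C.col o.val k.val k) (hw : w ∈ C.par o.val) {p q : Fin n} (hp : o.val ≤ p.val)
    (hkq : k.val < q.val) (hpq : p ≠ q) (t : F) :
    C.X p q t * (u * C.rep o o' k a * w) ∈ C.cosets o o' o.val := by
  have hkq' : k ≠ q := fun h => by subst h; omega
  have h1 : u⁻¹ * C.X p q t * u⁻¹⁻¹ ∈ C.col o.val n q :=
    C.conj_col_col hkq.le hkq' k.2 (inv_mem hu) _ (C.X_mem_col hp p.2 hpq t)
  have h2 := C.col_mul_rep ho hk ha (le_trans hk hkq.le) hkq'.symm h1
  rw [show C.X p q t * (u * C.rep o o' k a * w) = u * C.rep o o' k a *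
    (((C.rep o o' k a)⁻¹ * (u⁻¹ * C.X p q t * u⁻¹⁻¹) * C.rep o o' k a) * w) by group]
  exact C.mem_cosets ha hk hk hu (mul_mem h2 hw)

variable [Finite F]

theorem W_conj_W {p k q : Fin n} (hpk : p ≠ k) (hkq : k ≠ q) (hpq : p ≠ q) {t : F} (ht : t ≠ 0) {a : F} :
    C.W p k t * C.W k q a = C.W p q (t * a) * C.W p k t := by
  have hm := fun x => C.W_mono hpk ht x
  have hM := C.W_mem_mono hpk ht
  have hq : Equiv.swap p k q = q := Equiv.swap_apply_of_ne_of_ne hpq.symm hkq.symm
  have h1 : C.W p k t * C.X k q a * (C.W p k t)⁻¹ = C.X p q (t * a) := by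
    rw [C.X_conj hM hm hkq, Equiv.swap_apply_right, hq]
    simp [hpk.symm, hkq.symm, hpq.symm]
  have h2 : C.W p k t * C.X q k (-a⁻¹) * (C.W p k t)⁻¹ = C.X q p (-(t * a)⁻¹) := by
    rw [C.X_conj hM hm hkq.symm, Equiv.swap_apply_right, hq]
    simp [hpk.symm, hkq.symm, hpq.symm, mul_comm]
  rw [eq_comm, ← eq_mul_inv_iff_mul_eq]
  conv_lhs => rw [W, ← h1, ← h2]
  conv_rhs => rw [W.eq_def C k q a]
  group

theorem Hh_conj_W {k r q : Fin n} (hkr : k ≠ r) (hkq : k ≠ q) (hrq : r ≠ q) {c : F} (hc : c ≠ 0) {a : F} :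
    C.Hh k r c * C.W k q a = C.W k q (c * a) * C.Hh k r c := by
  have hm : ∀ x, MonoAt (C.σ (C.Hh k r c)) x (Equiv.refl (Fin n) x)
      (if x = k then c else if x = r then c⁻¹ else 1) := fun x => C.Hh_mono hkr hc x
  have hM := C.Hh_mem_mono hkr hc
  have h1 : C.Hh k r c * C.X k q a * (C.Hh k r c)⁻¹ = C.X k q (c * a) := by
    rw [C.X_conj hM hm hkq]
    simp [hkq.symm, hrq.symm]
  have h2 : C.Hh k r c * C.X q k (-a⁻¹) * (C.Hh k r c)⁻¹ = C.X q k (-(c * a)⁻¹) := by
    rw [C.X_conj hM hm hkq.symm]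
    simp [hkq.symm, hrq.symm, mul_comm]
  rw [eq_comm, ← eq_mul_inv_iff_mul_eq]
  conv_lhs => rw [W, ← h1, ← h2]
  conv_rhs => rw [W.eq_def C k q a]
  group

/-- Lowering into a new leader. -/
theorem cosets_lower_new (ho : o'.val = o.val + 1) {k p : Fin n} (hpk : p.val = k.val + 1) {a : F}
    (ha : a ≠ 0) (hk : o.val ≤ k.val) {u w : Γ} (hu : u ∈ C.col o.val k.val k) (hw : w ∈ C.par o.val)
    {t : F} (ht : t ≠ 0) :
    C.X p k t * (u * C.rep o o' k a * w) ∈ C.cosets o o' o.val := by
  have hoo : o ≠ o' := fun h => by subst h; omega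
  have hne : p ≠ k := fun h => by subst h; omega
  have hop : o ≠ p := fun h => by subst h; omega
  set D := C.rep o o' k a
  set W0 := C.W p k t
  set S := C.X k p t⁻¹
  have hpl : o.val ≤ p.val := by omega
  -- the decomposition of a lower root element
  have hdec : C.X p k t = S * W0 * S := by
    refine C.pairGroup_ext hne (C.X_mem_pairGroup p k t)
      (mul_mem (mul_mem (C.X_mem_pairGroup' p k _) (C.W_mem_pairGroup p k t)) (C.X_mem_pairGroup' p k _)) ?_
    rw [map_mul, map_mul, C.σ_X hne, C.σ_X hne.symm, C.σ_W hne]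
    refine Cfsg.Agent.H1.SL_ext_single fun x => ?_
    have hmx := rw'_monoAt hne ht x
    rw [mul_smul, mul_smul, rx_smul_single hne.symm]
    by_cases hxp : x = p
    · subst hxp
      have hmk := rw'_monoAt hne ht k
      rw [MonoAt] at hmx hmk
      rw [rx_smul_single hne, if_neg hne, if_pos rfl, smul_add, hmx, Cfsg.Agent.H1.SL_smul_comm, hmk]
      simp only [hne, hne.symm, if_false, if_pos, Equiv.swap_apply_left, Equiv.swap_apply_right, smul_add,
        Cfsg.Agent.H1.SL_smul_comm, rx_smul_single hne.symm]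
      match_scalars <;> field_simp <;> ring
    · rw [if_neg hxp]
      rw [MonoAt] at hmx
      rw [hmx, Cfsg.Agent.H1.SL_smul_comm, rx_smul_single hne.symm, rx_smul_single hne]
      by_cases hxk : x = k
      · subst hxk
        simp only [if_pos, Equiv.swap_apply_right]
        match_scalars <;> field_simp
      · simp [hxp, hxk, Equiv.swap_apply_of_ne_of_ne hxp hxk]
  -- move `u`
  have hcomm : Commute (C.X p k t) u := by
    refine Subgroup.closure_induction (p := fun g _ => Commute (C.X p k t) g) ?_ (Commute.one_right _)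
      (fun _ _ _ _ => Commute.mul_right) (fun _ _ => Commute.inv_right) hu
    rintro _ ⟨i, s, _, hik, hne', rfl⟩
    exact C.X_commute hne hne' (fun h => by subst h; omega) hne t s
  have hS : u * S * u⁻¹ ∈ C.col o.val p.val p :=
    C.conj_col_col (show k.val ≤ p.val by omega) hne.symm (show k.val < p.val by omega) hu _
      (C.X_mem_col hk (show k.val < p.val by omega) hne.symm _)
  have hWu : W0⁻¹ * u * W0 ∈ C.col o.val k.val p := by
    have hinv : ∀ y, MonoAt (C.σ W0⁻¹) y (Equiv.swap p k y)
        (if Equiv.swap p k y = k then t else if Equiv.swap p k y = p then -t⁻¹ else 1)⁻¹ := by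
      intro y
      rw [map_inv]
      have := (C.W_mono hne ht (Equiv.swap p k y)).inv
      rwa [Equiv.swap_apply_self] at this
    refine Subgroup.closure_induction (p := fun g _ => W0⁻¹ * g * W0 ∈ C.col o.val k.val p) ?_ (by simp)
      ?_ ?_ hu
    · rintro _ ⟨i, s, hi, hik, hne', rfl⟩
      have h1 := C.X_conj (inv_mem (C.W_mem_mono hne ht)) hinv hne' s
      rw [inv_inv] at h1
      rw [h1, Equiv.swap_apply_right, Equiv.swap_apply_of_ne_of_ne (fun h => by subst h; omega) hne']
      exact C.X_mem_col hi hik (fun h => by subst h; omega) _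
    · intro x y _ _ hx hy
      have := mul_mem hx hy
      rwa [show W0⁻¹ * x * W0 * (W0⁻¹ * y * W0) = W0⁻¹ * (x * y) * W0 by group] at this
    · intro x _ hx
      have := inv_mem hx
      rwa [show (W0⁻¹ * x * W0)⁻¹ = W0⁻¹ * x⁻¹ * W0 by group] at this
  have hWu' : D⁻¹ * (W0⁻¹ * u * W0) * D ∈ C.par o.val := C.col_mul_rep hoo hk ha hpl hne hWu
  have hSD : D⁻¹ * S * D ∈ C.par o.val := C.X_mul_rep hoo hk ha hk hpl hne.symm hne _
  have hWD : ∃ x ∈ C.par o.val, W0 * D = C.rep o o' p (t * a) * x := by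
    by_cases hko : k = o
    · subst hko
      have hp' : p = o' := Fin.ext (by omega)
      subst hp'
      refine ⟨1, one_mem _, ?_⟩
      simp only [D, rep, if_pos rfl, if_neg hne, mul_one, W0]
      refine C.pairGroup_ext hne (mul_mem (C.W_mem_pairGroup p k t) (C.Hh_mem_pairGroup' p k a))
        (C.W_mem_pairGroup p k _) ?_
      rw [map_mul]
      refine eq_of_monoAt fun x => ⟨_, _, ?_, C.W_mono hne (mul_ne_zero ht ha) x⟩
      refine ((C.Hh_mono hne.symm ha x).mul (C.W_mono hne ht x)).of_eq rfl ?_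
      rcases eq_or_ne x k with rfl | hxk
      · simp [mul_comm]
      rcases eq_or_ne x p with rfl | hxp
      · simp [hne, mul_comm]
      · simp [hxk, hxp]
    · refine ⟨W0, C.gen_succ_le_par o.val (C.W_mem_gen (by omega)
        (Nat.lt_of_le_of_ne hk (fun h => hko (Fin.ext h).symm)) hne t), ?_⟩
      simp only [D, rep, if_neg hko, if_neg hop.symm, W0]
      exact C.W_conj_W hne hko hop.symm ht
  obtain ⟨x, hx, hWD'⟩ := hWD
  have heq : C.X p k t * (u * D * w) = (u * S * u⁻¹) * C.rep o o' p (t * a) *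
      (x * ((D⁻¹ * (W0⁻¹ * u * W0) * D) * (D⁻¹ * S * D) * w)) := by
    -- move `u` to the left, then decompose
    have hu2 : C.X p k t = u⁻¹ * C.X p k t * u := by
      rw [mul_assoc, hcomm.eq, inv_mul_cancel_left]
    calc C.X p k t * (u * D * w) = u * C.X p k t * (D * w) := by rw [← hcomm.eq]; group
      _ = (u * S * u⁻¹) * (W0 * D) * ((D⁻¹ * (W0⁻¹ * u * W0) * D) * (D⁻¹ * S * D) * w) := by
          rw [hdec]; group
      _ = _ := by rw [hWD']; group
  rw [heq]
  exact C.mem_cosets (mul_ne_zero ht ha) hpl hpl hS (mul_mem hx (mul_mem (mul_mem hWu' hSD) hw))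

/-- Lowering out of the leader. -/
theorem cosets_lower_leader (ho : o'.val = o.val + 1) {k r : Fin n} (hkr : k.val = r.val + 1)
    (hr : o.val ≤ r.val) {a : F} (ha : a ≠ 0) {u w : Γ} (hu : u ∈ C.col o.val k.val k)
    (hw : w ∈ C.par o.val) (t : F) :
    C.X k r t * (u * C.rep o o' k a * w) ∈ C.cosets o o' o.val := by
  have hoo : o ≠ o' := fun h => by subst h; omega
  have hne : k ≠ r := fun h => by subst h; omega
  have hk : o.val ≤ k.val := by omega
  set D := C.rep o o' k a
  -- split off the component at `r`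
  obtain ⟨u', b, hu', rfl⟩ : ∃ u' b, u' ∈ C.col o.val r.val k ∧ u = u' * C.X r k b := by
    refine Subgroup.closure_induction_left
      (p := fun u _ => ∃ u' b, u' ∈ C.col o.val r.val k ∧ u = u' * C.X r k b)
      ⟨1, 0, one_mem _, by rw [C.X_zero hne.symm, one_mul]⟩ ?_ ?_ hu
    all_goals
      rintro _ ⟨i, s, hi, hik, hne', rfl⟩ v _ ⟨v', b, hv', rfl⟩
    · by_cases hir : i = r
      · subst hir
        refine ⟨v', s + b, hv', ?_⟩
        have hc : Commute (C.X i k s) v' := by
          refine Subgroup.closure_induction (p := fun g _ => Commute (C.X i k s) g) ?_ (Commute.one_right _)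
            (fun _ _ _ _ => Commute.mul_right) (fun _ _ => Commute.inv_right) hv'
          rintro _ ⟨j, s', _, _, hj, rfl⟩
          exact C.X_commute hne' hj hj.symm hne' s s'
        rw [← mul_assoc, hc.eq, mul_assoc, ← C.X_add hne']
      · exact ⟨C.X i k s * v', b, mul_mem (C.X_mem_col hi (by
          have : i.val ≠ r.val := fun h => hir (Fin.ext h)
          omega) hne' s) hv', by rw [mul_assoc]⟩
    · rw [C.X_inv hne']
      by_cases hir : i = r
      · subst hir
        refine ⟨v', -s + b, hv', ?_⟩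
        have hc : Commute (C.X i k (-s)) v' := by
          refine Subgroup.closure_induction (p := fun g _ => Commute (C.X i k (-s)) g) ?_
            (Commute.one_right _) (fun _ _ _ _ => Commute.mul_right) (fun _ _ => Commute.inv_right) hv'
          rintro _ ⟨j, s', _, _, hj, rfl⟩
          exact C.X_commute hne' hj hj.symm hne' _ s'
        rw [← mul_assoc, hc.eq, mul_assoc, ← C.X_add hne']
      · exact ⟨C.X i k (-s) * v', b, mul_mem (C.X_mem_col hi (by
          have : i.val ≠ r.val := fun h => hir (Fin.ext h)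
          omega) hne' _) hv', by rw [mul_assoc]⟩
  -- the core
  suffices hcore : C.X k r t * C.X r k b * D * w ∈ C.cosets o o' r.val by
    let T : Set Γ := {g | ∃ (i q : Fin n) (s : F), o.val ≤ i.val ∧ i.val < r.val ∧ o.val ≤ q.val ∧
      i ≠ q ∧ g = C.X i q s}
    have hT : C.X k r t * u' * (C.X k r t)⁻¹ ∈ Subgroup.closure T := by
      refine Subgroup.closure_induction
        (p := fun g _ => C.X k r t * g * (C.X k r t)⁻¹ ∈ Subgroup.closure T) ?_ (by simp) ?_ ?_ hu'
      · rintro _ ⟨i, s, hi, hir, hne', rfl⟩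
        have hir' : i ≠ r := fun h => by subst h; omega
        have h := C.X_bracket (i := i) (j := r) (k := k) hir' hne' hne s t
        rw [← _root_.inv_inj, commutatorElement_inv, commutatorElement_def,
          mul_inv_eq_iff_eq_mul, C.X_inv hir'] at h
        rw [h]
        exact mul_mem (Subgroup.subset_closure ⟨i, r, _, hi, hir, hr, hir', rfl⟩)
          (Subgroup.subset_closure ⟨i, k, _, hi, hir, hk, hne', rfl⟩)
      · intro x y _ _ hx hy
        have := mul_mem hx hy
        rwa [show C.X k r t * x * (C.X k r t)⁻¹ * (C.X k r t * y * (C.X k r t)⁻¹)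
          = C.X k r t * (x * y) * (C.X k r t)⁻¹ by group] at this
      · intro x _ hx
        have := inv_mem hx
        rwa [show (C.X k r t * x * (C.X k r t)⁻¹)⁻¹ = C.X k r t * x⁻¹ * (C.X k r t)⁻¹ by group] at this
    rw [show C.X k r t * (u' * C.X r k b * D * w) =
      (C.X k r t * u' * (C.X k r t)⁻¹) * (C.X k r t * C.X r k b * D * w) by group]
    refine C.cosets_mono hr ?_
    refine Subgroup.closure_induction_left (p := fun g _ => g * (C.X k r t * C.X r k b * D * w)
      ∈ C.cosets o o' r.val) (by rwa [one_mul]) ?_ ?_ hT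
    all_goals
      rintro _ ⟨i, q, s, hi, hir, hq, hiq, rfl⟩ v _ hv
    · rw [mul_assoc]; exact C.cosets_upper hoo hi hir hq hiq s hv
    · rw [C.X_inv hiq, mul_assoc]; exact C.cosets_upper hoo hi hir hq hiq _ hv
  have hXD : ∀ s, D⁻¹ * C.X k r s * D ∈ C.par o.val := fun s => C.X_mul_rep hoo hk ha hk hr hne hne.symm s
  by_cases hc : 1 + t * b = 0
  · have hb : b ≠ 0 := fun h => by simp [h] at hc
    have hel : C.X k r t * C.X r k b = C.W r k b * C.X k r b⁻¹ := by
      refine C.pairGroup_ext hne (mul_mem (C.X_mem_pairGroup k r _) (C.X_mem_pairGroup' k r _))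
        (mul_mem (C.W_mem_pairGroup' k r b) (C.X_mem_pairGroup k r _)) ?_
      rw [map_mul, map_mul, C.σ_X hne, C.σ_X hne.symm, C.σ_W hne.symm, C.σ_X hne]
      refine Cfsg.Agent.H1.SL_ext_single fun x => ?_
      have hmx := rw'_monoAt hne.symm hb x
      have hmk := rw'_monoAt hne.symm hb k
      rw [MonoAt] at hmx hmk
      rw [mul_smul, mul_smul, rx_smul_single hne.symm, rx_smul_single hne]
      rcases eq_or_ne x k with rfl | hxk
      · rw [if_pos rfl, if_neg hne, hmx, smul_add, Cfsg.Agent.H1.SL_smul_comm, rx_smul_single hne,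
          rx_smul_single hne]
        simp only [hne, if_false, if_pos, Equiv.swap_apply_right, smul_add]
        match_scalars <;> first | linear_combination hc | ring
      rcases eq_or_ne x r with rfl | hxr
      · rw [if_neg hxk, if_pos rfl, smul_add, Cfsg.Agent.H1.SL_smul_comm, hmx, hmk,
          rx_smul_single hne, if_pos rfl]
        simp only [hxk, hne, if_false, if_pos, Equiv.swap_apply_left, Equiv.swap_apply_right]
        match_scalars <;> field_simp <;> first | linear_combination hc | ring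
      · rw [if_neg hxk, if_neg hxr, hmx, rx_smul_single hne, if_neg hxr]
        simp [hxk, hxr, Equiv.swap_apply_of_ne_of_ne hxr hxk]
    have hWD : ∃ x ∈ C.par o.val, C.W r k b * D = C.rep o o' r (b * a) * x := by
      have hko : k ≠ o := fun h => by subst h; omega
      by_cases hro : r = o
      · subst hro
        have hk' : k = o' := Fin.ext (by omega)
        subst hk'
        refine ⟨1, one_mem _, ?_⟩
        simp only [D, rep, if_pos rfl, if_neg hne, mul_one]
        refine C.pairGroup_ext hne (mul_mem (C.W_mem_pairGroup' k r b) (C.W_mem_pairGroup k r a))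
          (C.Hh_mem_pairGroup' k r _) ?_
        rw [map_mul]
        refine eq_of_monoAt fun x => ⟨_, _, ?_, C.Hh_mono hne.symm (mul_ne_zero hb ha) x⟩
        refine ((C.W_mono hne ha x).mul (C.W_mono hne.symm hb _)).of_eq ?_ ?_
        · rw [Equiv.swap_comm r k, Equiv.swap_apply_self]
        · rcases eq_or_ne x r with rfl | hxr
          · simp [hne, mul_comm]
          rcases eq_or_ne x k with rfl | hxk
          · simp [hne, hne.symm, mul_comm]
          · simp [hxr, hxk, Equiv.swap_apply_of_ne_of_ne hxk hxr]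
      · refine ⟨C.W r k b, C.gen_succ_le_par o.val (C.W_mem_gen
          (Nat.lt_of_le_of_ne hr (fun h => hro (Fin.ext h).symm)) (by omega) hne.symm b), ?_⟩
        simp only [D, rep, if_neg hko, if_neg hro]
        exact C.W_conj_W hne.symm hko hro hb
    obtain ⟨x, hx, hWD'⟩ := hWD
    rw [hel, show C.W r k b * C.X k r b⁻¹ * D * w = C.W r k b * D * (D⁻¹ * C.X k r b⁻¹ * D * w) by group,
      hWD', show C.rep o o' r (b * a) * x * (D⁻¹ * C.X k r b⁻¹ * D * w) =
        1 * C.rep o o' r (b * a) * (x * (D⁻¹ * C.X k r b⁻¹ * D * w)) by group]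
    exact C.mem_cosets (mul_ne_zero hb ha) hr le_rfl (one_mem _) (mul_mem hx (mul_mem (hXD _) hw))
  · set c := 1 + t * b with hc_def
    have hel : C.X k r t * C.X r k b = C.X r k (b / c) * C.Hh k r c * C.X k r (t / c) := by
      refine C.pairGroup_ext hne (mul_mem (C.X_mem_pairGroup k r _) (C.X_mem_pairGroup' k r _))
        (mul_mem (mul_mem (C.X_mem_pairGroup' k r _) (C.Hh_mem_pairGroup k r c)) (C.X_mem_pairGroup k r _)) ?_
      rw [map_mul, map_mul, map_mul, C.σ_X hne, C.σ_X hne.symm, C.σ_X hne, C.σ_X hne.symm]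
      refine Cfsg.Agent.H1.SL_ext_single fun x => ?_
      have hmx := C.Hh_mono hne hc x
      have hmk := C.Hh_mono hne hc k
      rw [MonoAt] at hmx hmk
      rw [mul_smul, mul_smul, mul_smul, rx_smul_single hne.symm, rx_smul_single hne]
      rcases eq_or_ne x k with rfl | hxk
      · rw [if_pos rfl, if_neg hne, hmx, smul_add, Cfsg.Agent.H1.SL_smul_comm, rx_smul_single hne,
          rx_smul_single hne, Cfsg.Agent.H1.SL_smul_comm, rx_smul_single hne.symm]
        simp only [hne, if_false, if_pos, smul_add]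
        match_scalars <;> field_simp <;> rw [hc_def] <;> ring
      rcases eq_or_ne x r with rfl | hxr
      · rw [if_neg hxk, if_pos rfl, smul_add, Cfsg.Agent.H1.SL_smul_comm, hmx, hmk,
          rx_smul_single hne, if_pos rfl]
        simp only [hxk, hne, if_false, if_pos, smul_add, Cfsg.Agent.H1.SL_smul_comm, rx_smul_single hne.symm]
        have hct : t * b = c - 1 := by rw [hc_def]; ring
        match_scalars <;> field_simp <;> linear_combination hct
      · rw [if_neg hxk, if_neg hxr, hmx, Cfsg.Agent.H1.SL_smul_comm, rx_smul_single hne.symm,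
          rx_smul_single hne, if_neg hxk, if_neg hxr]
        simp [hxk, hxr]
    have hHD : ∃ x ∈ C.par o.val, C.Hh k r c * D = C.rep o o' k (c * a) * x := by
      have hko : k ≠ o := fun h => by subst h; omega
      by_cases hro : r = o
      · subst hro
        refine ⟨1, one_mem _, ?_⟩
        simp only [D, rep, if_neg hne, mul_one]
        refine C.pairGroup_ext hne (mul_mem (C.Hh_mem_pairGroup k r c) (C.W_mem_pairGroup k r a))
          (C.W_mem_pairGroup k r _) ?_
        rw [map_mul]
        refine eq_of_monoAt fun x => ⟨_, _, ?_, C.W_mono hne (mul_ne_zero hc ha) x⟩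
        refine ((C.W_mono hne ha x).mul (C.Hh_mono hne hc _)).of_eq rfl ?_
        rcases eq_or_ne x r with rfl | hxr
        · simp [hne, mul_comm]
        rcases eq_or_ne x k with rfl | hxk
        · simp [hne, hne.symm, mul_comm]
        · simp [hxr, hxk, Equiv.swap_apply_of_ne_of_ne hxk hxr]
      · refine ⟨C.Hh k r c, C.gen_succ_le_par o.val (C.Hh_mem_gen (by omega)
          (Nat.lt_of_le_of_ne hr (fun h => hro (Fin.ext h).symm)) hne c), ?_⟩
        simp only [D, rep, if_neg hko]
        exact C.Hh_conj_W hne hko hro hc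
    obtain ⟨x, hx, hHD'⟩ := hHD
    rw [hel, show C.X r k (b / c) * C.Hh k r c * C.X k r (t / c) * D * w =
      C.X r k (b / c) * (C.Hh k r c * D) * (D⁻¹ * C.X k r (t / c) * D * w) by group, hHD',
      show C.X r k (b / c) * (C.rep o o' k (c * a) * x) * (D⁻¹ * C.X k r (t / c) * D * w) =
        C.X r k (b / c) * C.rep o o' k (c * a) * (x * (D⁻¹ * C.X k r (t / c) * D * w)) by group]
    exact C.mem_cosets (mul_ne_zero hc ha) hk (by omega)
      (C.X_mem_col hr (by omega) hne.symm _) (mul_mem hx (mul_mem (hXD _) hw))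

end St

end Cfsg.Agent.H70.StPres
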