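import Mathlib
import Cfsg.Agent.H70.StPres.Bruhat

set_option autoImplicit false

namespace Cfsg.Agent.H70.StPres

open Matrix Cfsg.Agent.H64.SLCover
open scoped commutatorElement

namespace St

variable {n : ℕ} {F : Type*} [Field F] {Γ : Type*} [Group Γ] (C : St Γ n F)

/-- Simple root lifts with indices at least `m`. -/
def simples (m : ℕ) : Set Γ :=
  {g | ∃ (p q : Fin n) (t : F), m ≤ p.val ∧ m ≤ q.val ∧ (q.val = p.val + 1 ∨ p.val = q.val + 1) ∧
    g = C.X p q t}

theorem X_mem_simples {m : ℕ} :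
    ∀ (d : ℕ) (i j : Fin n), Nat.dist i.val j.val ≤ d → m ≤ i.val → m ≤ j.val → i ≠ j →
      ∀ t : F, C.X i j t ∈ Subgroup.closure (C.simples m) := by
  intro d
  induction d with
  | zero =>
    intro i j hd _ _ hne
    exact absurd (Fin.ext (Nat.eq_of_dist_eq_zero (Nat.le_zero.mp hd))) hne
  | succ d ih =>
    intro i j hd hi hj hne t
    have hne' : i.val ≠ j.val := fun h => hne (Fin.ext h)
    by_cases hs : j.val = i.val + 1 ∨ i.val = j.val + 1
    · exact Subgroup.subset_closure ⟨i, j, t, hi, hj, hs, rfl⟩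
    push Not at hs
    obtain ⟨k, hik, hkj, hk, hd1, hd2⟩ : ∃ k : Fin n, i ≠ k ∧ k ≠ j ∧ m ≤ k.val ∧
        Nat.dist i.val k.val ≤ d ∧ Nat.dist k.val j.val ≤ d := by
      simp only [Nat.dist] at hd ⊢
      rcases lt_or_gt_of_ne hne' with h | h
      · exact ⟨⟨i.val + 1, lt_trans (by omega : i.val + 1 < j.val) j.2⟩,
          fun h' => by have := congrArg Fin.val h'; simp at this,
          fun h' => by have := congrArg Fin.val h'; simp at this; omega,
          by simp only; omega, by simp only; omega, by simp only; omega⟩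
      · exact ⟨⟨i.val - 1, lt_of_le_of_lt (Nat.sub_le _ _) i.2⟩,
          fun h' => by have := congrArg Fin.val h'; simp at this; omega,
          fun h' => by have := congrArg Fin.val h'; simp at this; omega,
          by simp only; omega, by simp only; omega, by simp only; omega⟩
    rw [← mul_one t, ← C.X_bracket hne hik hkj, commutatorElement_def]
    have a := ih i k hd1 hi hk hik t
    have b := ih k j hd2 hk hj hkj 1
    exact mul_mem (mul_mem (mul_mem a b) (inv_mem a)) (inv_mem b)

theorem gen_eq_closure_simples (m : ℕ) : C.gen m = Subgroup.closure (C.simples m) := by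
  refine le_antisymm ?_ ?_
  · rw [gen, Subgroup.closure_le]
    rintro _ ⟨i, j, t, hi, hj, h, rfl⟩
    exact C.X_mem_simples _ i j le_rfl hi hj h t
  · rw [Subgroup.closure_le]
    rintro _ ⟨p, q, t, hp, hq, h, rfl⟩
    exact C.X_mem_gen hp hq (fun e => by subst e; omega) t

theorem Hh_one {i j : Fin n} (h : i ≠ j) : C.Hh i j (1 : F) = 1 := by
  rw [Hh, C.W_neg h, mul_inv_cancel]

section

variable [Finite F] {o o' : Fin n}

theorem simple_mul_mem (ho : o'.val = o.val + 1) {p q : Fin n} (hp : o.val ≤ p.val) (hq : o.val ≤ q.val)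
    (hpq : q.val = p.val + 1 ∨ p.val = q.val + 1) (t : F) {g : Γ} (hg : g ∈ C.cosets o o' o.val) :
    C.X p q t * g ∈ C.cosets o o' o.val := by
  obtain ⟨k, a, u, w, ha, hk, -, hu, hw, rfl⟩ := hg
  have hoo : o ≠ o' := fun h => by subst h; omega
  have hne : p ≠ q := fun h => by subst h; omega
  by_cases hpk : p.val < k.val
  · exact C.cosets_mono hk (C.cosets_upper hoo hp hpk hq hne t (C.mem_cosets ha hk le_rfl hu hw))
  by_cases hkq : k.val < q.val
  · exact C.cosets_right hoo ha hk hu hw hp hkq hne t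
  by_cases hp' : p.val = k.val
  · obtain rfl : p = k := Fin.ext hp'
    exact C.cosets_lower_leader ho (show p.val = q.val + 1 by omega) hq ha hu hw t
  · obtain rfl : q = k := Fin.ext (by omega)
    by_cases ht : t = 0
    · subst ht
      rw [C.X_zero hne, one_mul]
      exact C.mem_cosets ha hk hk hu hw
    · exact C.cosets_lower_new ho (show p.val = q.val + 1 by omega) ha hk hu hw ht

theorem mem_cosets_of_mem_gen (ho : o'.val = o.val + 1) {g : Γ} (hg : g ∈ C.gen o.val) :
    g ∈ C.cosets o o' o.val := by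
  have hoo : o ≠ o' := fun h => by subst h; omega
  rw [C.gen_eq_closure_simples] at hg
  refine Subgroup.closure_induction_left (p := fun g _ => g ∈ C.cosets o o' o.val) ?_ ?_ ?_ hg
  · refine ⟨o, 1, 1, 1, one_ne_zero, le_rfl, le_rfl, one_mem _, one_mem _, ?_⟩
    rw [rep, if_pos rfl, C.Hh_one hoo, one_mul, one_mul]
  · rintro _ ⟨p, q, t, hp, hq, hpq, rfl⟩ y _ hy
    exact C.simple_mul_mem ho hp hq hpq t hy
  · rintro _ ⟨p, q, t, hp, hq, hpq, rfl⟩ y _ hy
    rw [C.X_inv (fun h => by subst h; omega)]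
    exact C.simple_mul_mem ho hp hq hpq _ hy

omit [Finite F] in
theorem σ_col_smul_apply {m : ℕ} {k : Fin n} {u : Γ} (hu : u ∈ C.col m k.val k) :
    (C.σ u • (Pi.single k 1 : Fin n → F)) k = 1 := by
  rw [Cfsg.Agent.H1.SL_smul_single_apply]
  suffices h : ∀ x, (C.σ u : Matrix (Fin n) (Fin n) F) k x = (1 : Matrix (Fin n) (Fin n) F) k x by
    rw [h, Matrix.one_apply_eq]
  refine Subgroup.closure_induction_left
    (p := fun u _ => ∀ x, (C.σ u : Matrix (Fin n) (Fin n) F) k x = (1 : Matrix (Fin n) (Fin n) F) k x)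
    (fun x => by rw [map_one]; rfl) ?_ ?_ hu
  all_goals
    rintro _ ⟨i, t, _, hik, hne, rfl⟩ y _ hy x
    try rw [C.X_inv hne]
    rw [map_mul, C.σ_X hne, Matrix.SpecialLinearGroup.coe_mul, rx_coe hne, add_mul, one_mul,
      Matrix.add_apply, hy, Matrix.single_mul_apply_of_ne _ _ _ _ _ hne.symm, add_zero]

omit [Finite F] in
theorem σ_par_smul {g : Γ} (hg : g ∈ C.par o.val) :
    C.σ g • (Pi.single o 1 : Fin n → F) = Pi.single o 1 := by
  refine Subgroup.closure_induction
    (p := fun g _ => C.σ g • (Pi.single o 1 : Fin n → F) = Pi.single o 1) ?_ (by rw [map_one, one_smul]) ?_ ?_ hg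
  · rintro _ ⟨i, j, t, _, hj, h, rfl⟩
    rw [C.σ_X h, rx_smul_single h, if_neg (fun e => by subst e; omega)]
  · intro x y _ _ hx hy
    rw [map_mul, mul_smul, hy, hx]
  · intro x _ hx
    rw [map_inv, inv_smul_eq_iff, hx]

theorem mem_par_of_ker (ho : o'.val = o.val + 1) {g : Γ} (hg : g ∈ C.gen o.val) (h1 : C.σ g = 1) :
    g ∈ C.par o.val := by
  have hoo : o ≠ o' := fun h => by subst h; omega
  obtain ⟨k, a, u, p, ha, hk, -, hu, hp, rfl⟩ := C.mem_cosets_of_mem_gen ho hg
  have h2 : a • (C.σ u • (Pi.single k 1 : Fin n → F)) = Pi.single o 1 := by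
    have := congrArg (fun A : Matrix.SpecialLinearGroup (Fin n) F => A • (Pi.single o 1 : Fin n → F)) h1
    simp only [map_mul, mul_smul, one_smul, C.σ_par_smul hp] at this
    rw [C.rep_smul hoo ha, Cfsg.Agent.H1.SL_smul_comm] at this
    exact this
  have h3 := congrFun h2 k
  rw [Pi.smul_apply, C.σ_col_smul_apply hu, smul_eq_mul, mul_one] at h3
  by_cases hko : k = o
  · subst hko
    rw [Pi.single_eq_same] at h3
    subst h3
    have hu1 : u = 1 := by
      refine Subgroup.mem_bot.mp ((show C.col k.val k.val k ≤ ⊥ from ?_) hu)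
      rw [col, Subgroup.closure_le]
      rintro _ ⟨i, t, hi, hik, -, rfl⟩
      omega
    rw [hu1, rep, if_pos rfl, C.Hh_one hoo, one_mul, one_mul]
    exact hp
  · rw [Pi.single_eq_of_ne hko] at h3
    exact absurd h3 ha

end

/-- The row group `⟨X o j : o < j < b⟩`. -/
noncomputable def row (o : Fin n) (b : ℕ) : Subgroup Γ :=
  Subgroup.closure {g | ∃ (j : Fin n) (t : F), o.val < j.val ∧ j.val < b ∧ g = C.X o j t}

theorem σ_row_smul {o : Fin n} {b : ℕ} {r : Γ} (hr : r ∈ C.row o b) {y : Fin n}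
    (hy : y.val ≤ o.val ∨ b ≤ y.val) : C.σ r • (Pi.single y 1 : Fin n → F) = Pi.single y 1 := by
  refine Subgroup.closure_induction
    (p := fun r _ => C.σ r • (Pi.single y 1 : Fin n → F) = Pi.single y 1) ?_ (by rw [map_one, one_smul]) ?_ ?_ hr
  · rintro _ ⟨j, t, hoj, hjb, rfl⟩
    have h : o ≠ j := fun e => by subst e; omega
    rw [C.σ_X h, rx_smul_single h, if_neg (fun e => by subst e; omega)]
  · intro x z _ _ hx hz
    rw [map_mul, mul_smul, hz, hx]
  · intro x _ hx
    rw [map_inv, inv_smul_eq_iff, hx]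

theorem row_split {o : Fin n} {b : Fin n} (hob : o.val < b.val) {r : Γ} (hr : r ∈ C.row o (b.val + 1)) :
    ∃ r' t, r' ∈ C.row o b.val ∧ r = r' * C.X o b t := by
  have hne : o ≠ b := fun e => by subst e; omega
  refine Subgroup.closure_induction_left (p := fun r _ => ∃ r' t, r' ∈ C.row o b.val ∧ r = r' * C.X o b t)
    ⟨1, 0, one_mem _, by rw [C.X_zero hne, one_mul]⟩ ?_ ?_ hr
  all_goals
    rintro _ ⟨j, s, hoj, hjb, rfl⟩ v _ ⟨v', t, hv', rfl⟩
    have hne' : o ≠ j := fun e => by subst e; omega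
    try rw [C.X_inv hne']
  all_goals
    by_cases hjb' : j = b
    · subst hjb'
      first
        | refine ⟨v', s + t, hv', ?_⟩
          have hc : Commute (C.X o j s) v' := by
            refine Subgroup.closure_induction (p := fun g _ => Commute (C.X o j s) g) ?_ (Commute.one_right _)
              (fun _ _ _ _ => Commute.mul_right) (fun _ _ => Commute.inv_right) hv'
            rintro _ ⟨i, s', hoi, _, rfl⟩
            have hi : o ≠ i := fun e => by subst e; omega
            exact C.X_commute hne' hi hne'.symm hi s s'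
          rw [← mul_assoc, hc.eq, mul_assoc, ← C.X_add hne']
          done
        | refine ⟨v', -s + t, hv', ?_⟩
          have hc : Commute (C.X o j (-s)) v' := by
            refine Subgroup.closure_induction (p := fun g _ => Commute (C.X o j (-s)) g) ?_ (Commute.one_right _)
              (fun _ _ _ _ => Commute.mul_right) (fun _ _ => Commute.inv_right) hv'
            rintro _ ⟨i, s', hoi, _, rfl⟩
            have hi : o ≠ i := fun e => by subst e; omega
            exact C.X_commute hne' hi hne'.symm hi (-s) s'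
          rw [← mul_assoc, hc.eq, mul_assoc, ← C.X_add hne']
    · have : j.val ≠ b.val := fun e => hjb' (Fin.ext e)
      exact ⟨_, t, mul_mem (Subgroup.subset_closure ⟨j, _, hoj, by omega, rfl⟩) hv', by rw [mul_assoc]⟩

theorem row_eq_one {o : Fin n} :
    ∀ (b : ℕ) (r : Γ), r ∈ C.row o b →
      (∀ y : Fin n, y ≠ o → (C.σ r : Matrix (Fin n) (Fin n) F) o y = 0) → r = 1 := by
  intro b
  induction b with
  | zero =>
    intro r hr _
    refine Subgroup.mem_bot.mp ((show C.row o 0 ≤ ⊥ from ?_) hr)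
    rw [row, Subgroup.closure_le]
    rintro _ ⟨j, t, hoj, hjb, -⟩
    omega
  | succ b ih =>
    intro r hr h0
    by_cases hb : o.val < b ∧ b < n
    · obtain ⟨r', t, hr', rfl⟩ := C.row_split (b := ⟨b, hb.2⟩) hb.1 hr
      have hne : o ≠ ⟨b, hb.2⟩ := fun e => by have := congrArg Fin.val e; simp at this; omega
      have h := h0 _ hne.symm
      rw [← Cfsg.Agent.H1.SL_smul_single_apply, map_mul, C.σ_X hne, mul_smul, rx_smul_single hne,
        if_pos rfl, smul_add, C.σ_row_smul hr' (Or.inr le_rfl), Cfsg.Agent.H1.SL_smul_comm,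
        C.σ_row_smul hr' (Or.inl le_rfl), Pi.add_apply, Pi.smul_apply, Pi.single_eq_same,
        Pi.single_eq_of_ne hne, smul_eq_mul, mul_one, zero_add] at h
      subst h
      rw [C.X_zero hne, mul_one] at h0 ⊢
      exact ih r' hr' h0
    · refine ih r ((show C.row o (b + 1) ≤ C.row o b from ?_) hr) h0
      rw [row, Subgroup.closure_le]
      rintro _ ⟨j, t, hoj, hjb, rfl⟩
      refine Subgroup.subset_closure ⟨j, t, hoj, ?_, rfl⟩
      have := j.2
      omega

theorem X_conj_row {o : Fin n} {i q : Fin n} (hi : o.val < i.val) (hq : o.val < q.val) (hiq : i ≠ q)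
    (t : F) : ∀ r ∈ C.row o n, C.X i q t * r * (C.X i q t)⁻¹ ∈ C.row o n := by
  intro r hr
  have hqo : q ≠ o := fun e => by subst e; omega
  have hio : i ≠ o := fun e => by subst e; omega
  refine Subgroup.closure_induction (p := fun r _ => C.X i q t * r * (C.X i q t)⁻¹ ∈ C.row o n)
    ?_ (by simp) ?_ ?_ hr
  · rintro _ ⟨j, s, hoj, hjn, rfl⟩
    have hoj' : o ≠ j := fun e => by subst e; omega
    by_cases hij : i = j
    · subst hij
      have h := C.X_bracket (i := o) (j := q) (k := i) hqo.symm hoj' hiq s t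
      rw [← _root_.inv_inj, commutatorElement_inv, commutatorElement_def, mul_inv_eq_iff_eq_mul,
        C.X_inv hqo.symm] at h
      rw [h]
      exact mul_mem (Subgroup.subset_closure ⟨q, _, hq, q.2, rfl⟩)
        (Subgroup.subset_closure ⟨i, _, hoj, hjn, rfl⟩)
    · rw [(C.X_commute hiq hoj' hqo hij t s).eq, mul_inv_cancel_right]
      exact Subgroup.subset_closure ⟨j, s, hoj, hjn, rfl⟩
  · intro x y _ _ hx hy
    have := mul_mem hx hy
    rwa [show C.X i q t * x * (C.X i q t)⁻¹ * (C.X i q t * y * (C.X i q t)⁻¹)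
      = C.X i q t * (x * y) * (C.X i q t)⁻¹ by group] at this
  · intro x _ hx
    have := inv_mem hx
    rwa [show (C.X i q t * x * (C.X i q t)⁻¹)⁻¹ = C.X i q t * x⁻¹ * (C.X i q t)⁻¹ by group] at this

theorem par_decomp {o : Fin n} {g : Γ} (hg : g ∈ C.par o.val) :
    ∃ r l, r ∈ C.row o n ∧ l ∈ C.gen (o.val + 1) ∧ g = r * l := by
  refine Subgroup.closure_induction_left
    (p := fun g _ => ∃ r l, r ∈ C.row o n ∧ l ∈ C.gen (o.val + 1) ∧ g = r * l)
    ⟨1, 1, one_mem _, one_mem _, (one_mul 1).symm⟩ ?_ ?_ hg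
  all_goals
    rintro _ ⟨i, q, t, hi, hq, hiq, rfl⟩ v _ ⟨r, l, hr, hl, rfl⟩
    try rw [C.X_inv hiq]
    by_cases hio : i = o
    · subst hio
      exact ⟨_, l, mul_mem (Subgroup.subset_closure ⟨q, _, hq, q.2, rfl⟩) hr, hl, by rw [mul_assoc]⟩
    · have hi' : o.val < i.val := Nat.lt_of_le_of_ne hi (fun e => hio (Fin.ext e).symm)
      first
        | refine ⟨C.X i q t * r * (C.X i q t)⁻¹, C.X i q t * l, C.X_conj_row hi' hq hiq t r hr,
            mul_mem (C.X_mem_gen hi' hq hiq t) hl, ?_⟩
          group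
          done
        | exact ⟨C.X i q (-t) * r * (C.X i q (-t))⁻¹, C.X i q (-t) * l, C.X_conj_row hi' hq hiq (-t) r hr,
            mul_mem (C.X_mem_gen hi' hq hiq (-t)) hl, by group⟩

theorem gen_row_apply {o : Fin n} {l : Γ} (hl : l ∈ C.gen (o.val + 1)) :
    ∀ x, (C.σ l : Matrix (Fin n) (Fin n) F) o x = (1 : Matrix (Fin n) (Fin n) F) o x := by
  refine Subgroup.closure_induction_left
    (p := fun l _ => ∀ x, (C.σ l : Matrix (Fin n) (Fin n) F) o x = (1 : Matrix (Fin n) (Fin n) F) o x)
    (fun x => by rw [map_one]; rfl) ?_ ?_ hl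
  all_goals
    rintro _ ⟨i, q, t, hi, hq, hiq, rfl⟩ y _ hy x
    try rw [C.X_inv hiq]
    have hoi : o ≠ i := fun e => by subst e; omega
    rw [map_mul, C.σ_X hiq, Matrix.SpecialLinearGroup.coe_mul, rx_coe hiq, add_mul, one_mul,
      Matrix.add_apply, hy, Matrix.single_mul_apply_of_ne _ _ _ _ _ hoi, add_zero]

variable [Finite F]

/-- The lifted root groups generate a subgroup mapped injectively to `SL_n`. -/
theorem gen_injective : ∀ (d m : ℕ), n ≤ m + d → ∀ g ∈ C.gen m, C.σ g = 1 → g = 1 := by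
  intro d
  induction d with
  | zero =>
    intro m hm g hg _
    refine Subgroup.mem_bot.mp ((show C.gen m ≤ ⊥ from ?_) hg)
    rw [gen, Subgroup.closure_le]
    rintro _ ⟨i, j, t, hi, -, -, -⟩
    have := i.2
    omega
  | succ d ih =>
    intro m hm g hg h1
    by_cases hlt : m + 1 < n
    · set o : Fin n := ⟨m, by omega⟩
      have hg' := C.mem_par_of_ker (o := o) (o' := ⟨m + 1, hlt⟩) rfl hg h1
      obtain ⟨r, l, hr, hl, rfl⟩ := C.par_decomp hg'
      have hσ : C.σ r = C.σ l⁻¹ := by
        rw [map_inv]; rw [map_mul] at h1; exact eq_inv_of_mul_eq_one_left h1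
      have hr1 : r = 1 := by
        refine C.row_eq_one n r hr fun y hy => ?_
        rw [hσ, C.gen_row_apply (inv_mem hl), Matrix.one_apply_ne hy.symm]
      subst hr1
      rw [one_mul] at h1 ⊢
      exact ih (m + 1) (by omega) l hl h1
    · refine Subgroup.mem_bot.mp ((show C.gen m ≤ ⊥ from ?_) hg)
      rw [gen, Subgroup.closure_le]
      rintro _ ⟨i, j, t, hi, hj, hij, -⟩
      have := i.2
      have := j.2
      exact absurd (Fin.ext (by omega)) hij

end St

end Cfsg.Agent.H70.StPres
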